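import Groth.Agent.Lib.PPoly3.Regular
import Mathlib.RingTheory.MvPolynomial.Basic
import Mathlib.LinearAlgebra.Dimension.RankNullity
import Mathlib.LinearAlgebra.FreeModule.Finite.Matrix

/-!
Extensions of local rings by Eisenstein-type polynomials in separate variables.
-/

set_option autoImplicit false
set_option linter.style.haveILetI false
set_option linter.unusedSectionVars false

universe u

open IsLocalRing

namespace Groth.Agent.EisPoly3

open MvPolynomial

variable {A : Type u} [CommRing A] [IsLocalRing A] {r : ℕ}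

/-- Reduction modulo the maximal ideal, evaluated at the origin. -/
noncomputable def origin (A : Type u) [CommRing A] [IsLocalRing A] (r : ℕ) :
    MvPolynomial (Fin r) A →+* ResidueField A :=
  (residue A).comp constantCoeff

theorem origin_surjective : Function.Surjective (origin A r) := fun y => by
  obtain ⟨a, rfl⟩ := residue_surjective y
  exact ⟨C a, by simp [origin]⟩

instance : (RingHom.ker (origin A r)).IsMaximal := RingHom.ker_isMaximal_of_surjective _ origin_surjective

theorem mem_ker_origin {G : MvPolynomial (Fin r) A} :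
    G ∈ RingHom.ker (origin A r) ↔ coeff 0 G ∈ maximalIdeal A := by
  rw [RingHom.mem_ker]
  exact residue_eq_zero_iff _

theorem coeff_single_mul (H G : MvPolynomial (Fin r) A) (i : Fin r) :
    coeff (Finsupp.single i 1) (H * G) =
      coeff 0 H * coeff (Finsupp.single i 1) G + coeff (Finsupp.single i 1) H * coeff 0 G := by
  classical
  rw [coeff_mul, Finsupp.antidiagonal_single, Finset.sum_map]
  rw [show Finset.antidiagonal (1 : ℕ) = {(0, 1), (1, 0)} from rfl, Finset.sum_pair (by decide)]
  simp

theorem ker_origin_le (J : Ideal (MvPolynomial (Fin r) A)) (hm : ∀ a ∈ maximalIdeal A, C a ∈ J)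
    (hX : ∀ i, X i ∈ J) : RingHom.ker (origin A r) ≤ J := by
  intro G hG
  rw [mem_ker_origin] at hG
  have key : ∀ H : MvPolynomial (Fin r) A, H - C (coeff 0 H) ∈ J := fun H => by
    induction H using MvPolynomial.induction_on with
    | C a => simp
    | add p q hp hq =>
      have e : p + q - C (coeff 0 (p + q)) = (p - C (coeff 0 p)) + (q - C (coeff 0 q)) := by
        rw [coeff_add, map_add]; ring
      rw [e]; exact add_mem hp hq
    | mul_X p i hp =>
      have e : coeff 0 (p * X i) = (0 : A) := by simp [coeff_mul_X']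
      rw [e, map_zero, sub_zero]
      exact J.mul_mem_left p (hX i)
  have e := add_mem (key G) (hm _ hG)
  rwa [sub_add_cancel] at e

/-- `F i` is congruent to `X i ^ d i` modulo the maximal ideal, without linear term. -/
structure Eisenstein (F : Fin r → MvPolynomial (Fin r) A) (c : Fin r → A) : Prop where
  constantCoeff_eq : ∀ i, coeff 0 (F i) = c i
  mem : ∀ i, c i ∈ maximalIdeal A
  linear_mem : ∀ i j, coeff (Finsupp.single j 1) (F i) ∈ maximalIdeal A
  map_eq : ∀ i, ∃ n : ℕ, 2 ≤ n ∧ MvPolynomial.map (residue A) (F i) = X i ^ n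

/-- The linear part of a polynomial in the kernel of `origin`. -/
noncomputable def linPart (W : Submodule (ResidueField A) (CotangentSpace A)) (G : MvPolynomial (Fin r) A)
    (hG : coeff 0 G ∈ maximalIdeal A) : (CotangentSpace A ⧸ W) × (Fin r → ResidueField A) :=
  (W.mkQ ((maximalIdeal A).toCotangent ⟨coeff 0 G, hG⟩), fun i => residue A (coeff (Finsupp.single i 1) G))

theorem linPart_add (W : Submodule (ResidueField A) (CotangentSpace A)) (G G' : MvPolynomial (Fin r) A)
    (h : coeff 0 G ∈ maximalIdeal A) (h' : coeff 0 G' ∈ maximalIdeal A) (hs : coeff 0 (G + G') ∈ maximalIdeal A) :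
    linPart W (G + G') hs = linPart W G h + linPart W G' h' := by
  refine Prod.ext ?_ (funext fun i => by simp [linPart])
  show W.mkQ _ = W.mkQ _ + W.mkQ _
  rw [← map_add, ← map_add]
  exact congrArg _ (congrArg _ (Subtype.ext (coeff_add _ _ _)))

theorem linPart_zero (W : Submodule (ResidueField A) (CotangentSpace A))
    (h : coeff 0 (0 : MvPolynomial (Fin r) A) ∈ maximalIdeal A) : linPart W 0 h = 0 := by
  refine Prod.ext ?_ (funext fun i => by simp [linPart])
  show W.mkQ _ = 0
  rw [show (⟨coeff 0 (0 : MvPolynomial (Fin r) A), h⟩ : maximalIdeal A) = 0 from Subtype.ext (coeff_zero _), map_zero,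
    map_zero]

theorem linPart_mul (W : Submodule (ResidueField A) (CotangentSpace A)) (H G : MvPolynomial (Fin r) A)
    (h : coeff 0 G ∈ maximalIdeal A) (hs : coeff 0 (H * G) ∈ maximalIdeal A) :
    linPart W (H * G) hs = origin A r H • linPart W G h := by
  refine Prod.ext ?_ (funext fun i => ?_)
  · show W.mkQ _ = residue A (coeff 0 H) • W.mkQ _
    rw [← map_smul]
    refine congrArg _ ?_
    show _ = (algebraMap A (ResidueField A) (coeff 0 H)) • _
    rw [algebraMap_smul, ← map_smul]
    exact congrArg _ (Subtype.ext (by simp [coeff_mul, smul_eq_mul]))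
  · show residue A _ = residue A (coeff 0 H) • residue A _
    rw [coeff_single_mul, map_add, map_mul, map_mul, (residue_eq_zero_iff _).mpr h]
    simp

theorem linPart_congr (W : Submodule (ResidueField A) (CotangentSpace A)) {G G' : MvPolynomial (Fin r) A} (e : G = G')
    (h : coeff 0 G ∈ maximalIdeal A) (h' : coeff 0 G' ∈ maximalIdeal A) : linPart W G h = linPart W G' h' := by
  subst e; rfl

theorem linPart_sum {ι : Type*} (W : Submodule (ResidueField A) (CotangentSpace A)) (s : Finset ι)
    (H G : ι → MvPolynomial (Fin r) A) (h : ∀ i, coeff 0 (G i) ∈ maximalIdeal A)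
    (hs : coeff 0 (∑ i ∈ s, H i * G i) ∈ maximalIdeal A) :
    linPart W (∑ i ∈ s, H i * G i) hs = ∑ i ∈ s, origin A r (H i) • linPart W (G i) (h i) := by
  classical
  induction s using Finset.induction_on with
  | empty => exact linPart_zero W _
  | insert a s ha ih =>
    have h1 : coeff 0 (H a * G a) ∈ maximalIdeal A :=
      mem_ker_origin.mp (Ideal.mul_mem_left _ _ (mem_ker_origin.mpr (h a)))
    have h2 : coeff 0 (∑ i ∈ s, H i * G i) ∈ maximalIdeal A :=
      mem_ker_origin.mp (sum_mem fun i _ => Ideal.mul_mem_left _ _ (mem_ker_origin.mpr (h i)))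
    rw [linPart_congr W (Finset.sum_insert ha (f := fun i => H i * G i)) hs
      (by rw [coeff_add]; exact add_mem h1 h2), linPart_add W _ _ h1 h2, Finset.sum_insert ha, ih h2,
      linPart_mul W (H a) (G a) (h a) h1]

variable {F : Fin r → MvPolynomial (Fin r) A} {c : Fin r → A}

/-- The cotangent classes of the constant coefficients. -/
noncomputable def cls (hF : Eisenstein F c) (i : Fin r) : CotangentSpace A :=
  (maximalIdeal A).toCotangent ⟨c i, hF.mem i⟩

theorem span_le (hF : Eisenstein F c) : Ideal.span (Set.range F) ≤ RingHom.ker (origin A r) := by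
  refine Ideal.span_le.mpr ?_
  rintro _ ⟨i, rfl⟩
  exact mem_ker_origin.mpr (hF.constantCoeff_eq i ▸ hF.mem i)

theorem linPart_span (hF : Eisenstein F c) {G : MvPolynomial (Fin r) A} (hG : G ∈ Ideal.span (Set.range F))
    (h : coeff 0 G ∈ maximalIdeal A) :
    linPart (Submodule.span (ResidueField A) (Set.range (cls hF))) G h = 0 := by
  obtain ⟨a, rfl⟩ := (Submodule.mem_span_range_iff_exists_fun _).mp hG
  have hFm : ∀ i, coeff 0 (F i) ∈ maximalIdeal A := fun i => hF.constantCoeff_eq i ▸ hF.mem i
  have e := linPart_sum (Submodule.span (ResidueField A) (Set.range (cls hF))) Finset.univ a F hFm h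
  simp only [smul_eq_mul]
  refine e.trans (Finset.sum_eq_zero fun i _ => ?_)
  have h0 : linPart (Submodule.span (ResidueField A) (Set.range (cls hF))) (F i) (hFm i) = 0 := by
    refine Prod.ext ?_ (funext fun j => (residue_eq_zero_iff _).mpr (hF.linear_mem i j))
    show Submodule.mkQ _ _ = 0
    refine (Submodule.Quotient.mk_eq_zero _).mpr ?_
    rw [show (⟨coeff 0 (F i), hFm i⟩ : maximalIdeal A) = ⟨c i, hF.mem i⟩ from Subtype.ext (hF.constantCoeff_eq i)]
    exact Submodule.subset_span ⟨i, rfl⟩
  rw [h0, smul_zero]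

variable {B : Type u} [CommRing B] [Algebra A B] {t : Fin r → B}

theorem isLocalRing (hF : Eisenstein F c) (hsurj : Function.Surjective (aeval (R := A) t))
    (hker : RingHom.ker (aeval (R := A) t) = Ideal.span (Set.range F)) [Algebra.IsIntegral A B] :
    ∃ _ : IsLocalRing B, (maximalIdeal B).comap (aeval (R := A) t) = RingHom.ker (origin A r) := by
  let M₀ := (RingHom.ker (origin A r)).map (aeval (R := A) t)
  have hc : M₀.comap (aeval (R := A) t) = RingHom.ker (origin A r) := by
    show ((RingHom.ker (origin A r)).map (aeval (R := A) t)).comap _ = _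
    rw [Ideal.comap_map_of_surjective _ hsurj, ← RingHom.ker_eq_comap_bot, hker, sup_eq_left.mpr (span_le hF)]
  haveI hmax : M₀.IsMaximal :=
    (Ideal.map_eq_top_or_isMaximal_of_surjective (aeval (R := A) t) hsurj inferInstance).resolve_left fun e =>
      (inferInstance : (RingHom.ker (origin A r)).IsMaximal).ne_top (by rw [← hc]; exact (congrArg _ e).trans Ideal.comap_top)
  have huniq : ∀ M : Ideal B, M.IsMaximal → M = M₀ := fun M hM => by
    haveI := hM
    have hmA : ∀ a ∈ maximalIdeal A, algebraMap A B a ∈ M := fun a ha =>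
      (IsLocalRing.eq_maximalIdeal (Ideal.isMaximal_comap_of_isIntegral_of_isMaximal (R := A) M)).ge ha
    refine (hmax.eq_of_le hM.ne_top (Ideal.map_le_iff_le_comap.mpr (ker_origin_le _ (fun a ha => ?_) fun i => ?_))).symm
    · rw [Ideal.mem_comap, aeval_C]
      exact hmA a ha
    · rw [Ideal.mem_comap, aeval_X]
      obtain ⟨n, -, hn⟩ := hF.map_eq i
      have h1 : F i - X i ^ n ∈ (maximalIdeal A).map (C : A →+* MvPolynomial (Fin r) A) := by
        rw [← IsLocalRing.ker_residue, ← MvPolynomial.ker_map, RingHom.mem_ker, map_sub, hn, map_pow, map_X, sub_self]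
      have h2 : aeval (R := A) t (F i - X i ^ n) ∈ M :=
        Ideal.mem_comap.mp ((Ideal.map_le_iff_le_comap.mpr fun a ha => by
          rw [Ideal.mem_comap, Ideal.mem_comap, aeval_C]; exact hmA a ha :
          _ ≤ M.comap (aeval (R := A) t)) h1)
      have h0 : aeval (R := A) t (F i) = 0 := by
        have : F i ∈ RingHom.ker (aeval (R := A) t) := hker ▸ Ideal.subset_span ⟨i, rfl⟩
        exact this
      rw [map_sub, h0, zero_sub, neg_mem_iff, map_pow, aeval_X] at h2
      exact hM.isPrime.mem_of_pow_mem n h2
  haveI : IsLocalRing B := IsLocalRing.of_unique_max_ideal ⟨M₀, hmax, huniq⟩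
  exact ⟨inferInstance, by rw [← IsLocalRing.eq_maximalIdeal hmax, hc]⟩

variable [IsLocalRing B]

theorem residue_surjective_comp (hsurj : Function.Surjective (aeval (R := A) t))
    (hmax : (maximalIdeal B).comap (aeval (R := A) t) = RingHom.ker (origin A r)) :
    Function.Surjective ((Ideal.Quotient.mk (maximalIdeal B)).comp (algebraMap A B)) := fun y => by
  obtain ⟨b, rfl⟩ := Ideal.Quotient.mk_surjective y
  obtain ⟨G, rfl⟩ := hsurj b
  refine ⟨coeff 0 G, ?_⟩
  rw [RingHom.comp_apply, ← aeval_C (f := t), Ideal.Quotient.mk_eq_mk_iff_sub_mem, ← map_sub, ← Ideal.mem_comap, hmax,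
    mem_ker_origin]
  simp

theorem algebraMap_mem (hmax : (maximalIdeal B).comap (aeval (R := A) t) = RingHom.ker (origin A r))
    {a : A} (ha : a ∈ maximalIdeal A) : algebraMap A B a ∈ maximalIdeal B := by
  rw [← aeval_C (f := t), ← Ideal.mem_comap, hmax, mem_ker_origin, coeff_C]
  simpa using ha

theorem gen_mem (hmax : (maximalIdeal B).comap (aeval (R := A) t) = RingHom.ker (origin A r)) (i : Fin r) :
    t i ∈ maximalIdeal B := by
  rw [← aeval_X (R := A) t i, ← Ideal.mem_comap, hmax, mem_ker_origin, coeff_zero_X]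
  exact zero_mem _

theorem mem_span_gen (hF : Eisenstein F c) (hker : RingHom.ker (aeval (R := A) t) = Ideal.span (Set.range F))
    (hmax : (maximalIdeal B).comap (aeval (R := A) t) = RingHom.ker (origin A r)) (i : Fin r) :
    algebraMap A B (c i) ∈ maximalIdeal B ^ 2 := by
  obtain ⟨n, hn2, hn⟩ := hF.map_eq i
  have h0 : aeval (R := A) t (F i) = 0 := by
    have : F i ∈ RingHom.ker (aeval (R := A) t) := hker ▸ Ideal.subset_span ⟨i, rfl⟩
    exact this
  -- `F i - C c - X^n` lies in `m A[X] ∩ (X)`
  let G := F i - C (c i) - X i ^ n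
  have hG0 : coeff 0 G = 0 := by
    simp only [G, coeff_sub, hF.constantCoeff_eq, coeff_C, coeff_X_pow]
    simp [show n ≠ 0 by omega]
  have hGm : ∀ m, coeff m G ∈ maximalIdeal A := fun m => by
    rw [← residue_eq_zero_iff, ← coeff_map]
    simp only [G, map_sub, hn, map_pow, map_X, map_C, (residue_eq_zero_iff _).mpr (hF.mem i), map_zero, sub_zero,
      sub_self, coeff_zero]
  have hG : aeval (R := A) t G ∈ maximalIdeal B ^ 2 := by
    rw [G.as_sum, map_sum]
    refine sum_mem fun m hm => ?_
    rw [aeval_monomial, pow_two]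
    refine Ideal.mul_mem_mul (algebraMap_mem hmax (hGm m)) ?_
    obtain ⟨j, hj⟩ : ∃ j, m j ≠ 0 := by
      by_contra hall
      push Not at hall
      rw [show m = 0 from Finsupp.ext hall] at hm
      exact mem_support_iff.mp hm hG0
    exact (maximalIdeal B).mem_of_dvd (Finset.dvd_prod_of_mem (fun k => t k ^ m k) (Finsupp.mem_support_iff.mpr hj))
      (Ideal.pow_mem_of_mem _ (gen_mem hmax j) _ (Nat.pos_of_ne_zero hj))
  have e : algebraMap A B (c i) = -(t i ^ n) - aeval (R := A) t G := by
    simp only [G, map_sub, h0, aeval_C, map_pow, aeval_X]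
    ring
  rw [e]
  exact sub_mem (neg_mem (Ideal.pow_le_pow_right hn2 (Ideal.pow_mem_pow (gen_mem hmax i) n))) hG

theorem sup_eq (hsurj : Function.Surjective (aeval (R := A) t))
    (hmax : (maximalIdeal B).comap (aeval (R := A) t) = RingHom.ker (origin A r)) :
    maximalIdeal B = (maximalIdeal A).map (algebraMap A B) ⊔ Ideal.span (Set.range t) := by
  refine le_antisymm ?_ (sup_le (Ideal.map_le_iff_le_comap.mpr fun a ha => algebraMap_mem hmax ha)
    (Ideal.span_le.mpr (by rintro _ ⟨i, rfl⟩; exact gen_mem hmax i)))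
  intro b hb
  obtain ⟨G, rfl⟩ := hsurj b
  have hG : G ∈ RingHom.ker (origin A r) := hmax ▸ hb
  refine (ker_origin_le (Ideal.comap (aeval (R := A) t)
    ((maximalIdeal A).map (algebraMap A B) ⊔ Ideal.span (Set.range t))) (fun a ha => ?_) (fun i => ?_)) hG
  · rw [Ideal.mem_comap, aeval_C]
    exact Ideal.mem_sup_left (Ideal.mem_map_of_mem _ ha)
  · rw [Ideal.mem_comap, aeval_X]
    exact Ideal.mem_sup_right (Ideal.subset_span ⟨i, rfl⟩)

theorem linPart_sq (hF : Eisenstein F c) (hsurj : Function.Surjective (aeval (R := A) t))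
    (hker : RingHom.ker (aeval (R := A) t) = Ideal.span (Set.range F))
    (hmax : (maximalIdeal B).comap (aeval (R := A) t) = RingHom.ker (origin A r))
    {a : A} (ha : a ∈ maximalIdeal A) (h2 : algebraMap A B a ∈ maximalIdeal B ^ 2) :
    (maximalIdeal A).toCotangent ⟨a, ha⟩ ∈ Submodule.span (ResidueField A) (Set.range (cls hF)) := by
  have hM : maximalIdeal B = (RingHom.ker (origin A r)).map (aeval (R := A) t) := by
    rw [← hmax, Ideal.map_comap_of_surjective _ hsurj]
  rw [hM, ← Ideal.map_pow, ← aeval_C (f := t), ← Ideal.mem_comap, Ideal.comap_map_of_surjective _ hsurj,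
    ← RingHom.ker_eq_comap_bot, hker, Submodule.mem_sup] at h2
  obtain ⟨G₁, hG₁, G₂, hG₂, e⟩ := h2
  rw [pow_two] at hG₁
  let W := Submodule.span (ResidueField A) (Set.range (cls hF))
  have h₂ : coeff 0 G₂ ∈ maximalIdeal A := mem_ker_origin.mp (span_le hF hG₂)
  have key : ∃ h₁ : coeff 0 G₁ ∈ maximalIdeal A, linPart W G₁ h₁ = 0 := by
    refine Submodule.mul_induction_on hG₁ (fun x hx y hy => ?_) fun x y hx hy => ?_
    · refine ⟨mem_ker_origin.mp (Ideal.mul_mem_left _ _ hy), ?_⟩
      rw [linPart_mul W x y (mem_ker_origin.mp hy), RingHom.mem_ker.mp hx, zero_smul]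
    · obtain ⟨hx, ex⟩ := hx
      obtain ⟨hy, ey⟩ := hy
      have hs : coeff 0 (x + y) ∈ maximalIdeal A := by rw [coeff_add]; exact add_mem hx hy
      exact ⟨hs, by rw [linPart_add W x y hx hy hs, ex, ey, add_zero]⟩
  obtain ⟨h₁, e₁⟩ := key
  have hC : coeff 0 (C a : MvPolynomial (Fin r) A) ∈ maximalIdeal A := by rw [coeff_C]; simpa using ha
  have e3 : linPart W (C a) hC = 0 := by
    have h4 := linPart_add W G₁ G₂ h₁ h₂ (e ▸ hC)
    rw [e₁, linPart_span hF hG₂ h₂, add_zero] at h4
    exact (linPart_congr W e.symm _ _).trans h4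
  have e5 := congrArg Prod.fst e3
  simp only [linPart, Prod.fst_zero, Submodule.mkQ_apply, Submodule.Quotient.mk_eq_zero] at e5
  exact (show (⟨a, ha⟩ : maximalIdeal A) = ⟨coeff 0 (C a : MvPolynomial (Fin r) A), hC⟩ from
    Subtype.ext (by simp)) ▸ e5

theorem finrank_le (hF : Eisenstein F c) [IsNoetherianRing A]
    (hsurj : Function.Surjective (aeval (R := A) t))
    (hker : RingHom.ker (aeval (R := A) t) = Ideal.span (Set.range F))
    (hmax : (maximalIdeal B).comap (aeval (R := A) t) = RingHom.ker (origin A r))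
    {n : ℕ} (g : Fin n → B) (hg : maximalIdeal B = Ideal.span (Set.range g)) :
    Module.finrank (ResidueField A) (CotangentSpace A) + r ≤
      n + Module.finrank (ResidueField A) (Submodule.span (ResidueField A) (Set.range (cls hF))) := by
  choose G hG using fun j => hsurj (g j)
  have hGm : ∀ j, coeff 0 (G j) ∈ maximalIdeal A := fun j => mem_ker_origin.mp (by
    rw [← hmax, Ideal.mem_comap, hG, hg]
    exact Ideal.subset_span ⟨j, rfl⟩)
  let W := Submodule.span (ResidueField A) (Set.range (cls hF))
  let v : Fin n → (CotangentSpace A ⧸ W) × (Fin r → ResidueField A) := fun j => linPart W (G j) (hGm j)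
  have htop : Submodule.span (ResidueField A) (Set.range v) = ⊤ := by
    rw [eq_top_iff]
    rintro ⟨x, z⟩ -
    obtain ⟨x', rfl⟩ := Submodule.mkQ_surjective W x
    obtain ⟨⟨a, ha⟩, rfl⟩ := Ideal.toCotangent_surjective _ x'
    choose z' hz' using fun i => residue_surjective (z i)
    let P : MvPolynomial (Fin r) A := C a + ∑ i, C (z' i) * X i
    have hP : coeff 0 P ∈ maximalIdeal A := by
      simp [P, coeff_sum, ha]
    have eP : linPart W P hP = (W.mkQ ((maximalIdeal A).toCotangent ⟨a, ha⟩), z) := by
      refine Prod.ext (congrArg (fun y => W.mkQ ((maximalIdeal A).toCotangent y)) (Subtype.ext (by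
        simp [P, coeff_sum]))) (funext fun i => ?_)
      show residue A _ = z i
      rw [← hz' i]
      congr 1
      simp [P, coeff_sum, coeff_C, coeff_X, Finsupp.single_eq_single_iff, Finset.sum_ite_eq', eq_comm (a := (0 : Fin r →₀ ℕ))]
    have hmem : aeval (R := A) t P ∈ Ideal.span (Set.range g) := by
      rw [← hg, ← Ideal.mem_comap, hmax]
      exact mem_ker_origin.mpr hP
    obtain ⟨h, hh⟩ := (Submodule.mem_span_range_iff_exists_fun _).mp hmem
    choose H hH using fun j => hsurj (h j)
    have hD : P - ∑ j, H j * G j ∈ Ideal.span (Set.range F) := by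
      rw [← hker, RingHom.mem_ker, map_sub, map_sum, ← hh, sub_eq_zero]
      simp only [map_mul, hH, hG, smul_eq_mul]
    have hs : coeff 0 (∑ j, H j * G j) ∈ maximalIdeal A :=
      mem_ker_origin.mp (sum_mem fun j _ => Ideal.mul_mem_left _ _ (mem_ker_origin.mpr (hGm j)))
    have hd := mem_ker_origin.mp (span_le hF hD)
    have e := linPart_add W (P - ∑ j, H j * G j) (∑ j, H j * G j) hd hs (by rwa [sub_add_cancel])
    rw [linPart_span hF hD hd, zero_add, linPart_sum W Finset.univ H G hGm hs] at e
    rw [← eP, linPart_congr W (sub_add_cancel P (∑ j, H j * G j)).symm hP (by rwa [sub_add_cancel]), e]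
    exact sum_mem fun j _ => Submodule.smul_mem _ _ (Submodule.subset_span ⟨j, rfl⟩)
  have h1 := finrank_range_le_card (R := ResidueField A) v
  rw [Set.finrank, htop, finrank_top, Module.finrank_prod, Module.finrank_fin_fun, Fintype.card_fin] at h1
  have h2 := W.finrank_quotient_add_finrank
  show _ ≤ n + Module.finrank (ResidueField A) W
  omega

theorem exists_gen (hF : Eisenstein F c) [IsNoetherianRing A]
    (hsurj : Function.Surjective (aeval (R := A) t))
    (hker : RingHom.ker (aeval (R := A) t) = Ideal.span (Set.range F))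
    (hmax : (maximalIdeal B).comap (aeval (R := A) t) = RingHom.ker (origin A r)) [IsNoetherianRing B] :
    (maximalIdeal B).spanFinrank +
        Module.finrank (ResidueField A) (Submodule.span (ResidueField A) (Set.range (cls hF))) ≤
      Module.finrank (ResidueField A) (CotangentSpace A) + r := by
  classical
  let W := Submodule.span (ResidueField A) (Set.range (cls hF))
  obtain ⟨C', hC'⟩ := Submodule.exists_isCompl W
  let b := Module.finBasis (ResidueField A) C'
  choose a ha using fun j => Ideal.toCotangent_surjective (maximalIdeal A) (b j : CotangentSpace A)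
  let s : Finset B := (Finset.univ.image fun j => algebraMap A B (a j).1) ∪ Finset.univ.image t
  have hs : maximalIdeal B = Ideal.span (s : Set B) := by
    refine le_antisymm ?_ (Ideal.span_le.mpr ?_)
    · refine Submodule.le_of_le_smul_of_le_jacobson_bot (I := maximalIdeal B)
        (IsNoetherian.noetherian _) (IsLocalRing.maximalIdeal_le_jacobson ⊥) ?_
      rw [smul_eq_mul, ← pow_two, sup_eq hsurj hmax, ← sup_eq hsurj hmax]
      refine (sup_eq hsurj hmax).le.trans (sup_le ?_ ?_)
      · rw [Ideal.map_le_iff_le_comap]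
        intro x hx
        let J : Submodule A A := Ideal.comap (algebraMap A B) (Ideal.span (s : Set B) ⊔ maximalIdeal B ^ 2)
        let J' : Submodule A (CotangentSpace A) := Submodule.map (maximalIdeal A).toCotangent (J.comap (Submodule.subtype _))
        have hsm : ∀ (k : ResidueField A) (y : CotangentSpace A), y ∈ J' → k • y ∈ J' := fun k y hy => by
          obtain ⟨a', rfl⟩ := residue_surjective k
          rw [← ResidueField.algebraMap_eq, algebraMap_smul]
          exact J'.smul_mem a' hy
        let J'' : Submodule (ResidueField A) (CotangentSpace A) :=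
          { carrier := J', add_mem' := J'.add_mem, zero_mem' := J'.zero_mem, smul_mem' := hsm }
        have hW : W ≤ J'' := Submodule.span_le.mpr (by
          rintro _ ⟨i, rfl⟩
          exact ⟨⟨c i, hF.mem i⟩, Ideal.mem_sup_right (mem_span_gen hF hker hmax i), rfl⟩)
        have hC : C' ≤ J'' := fun y hy => by
          have hy' := b.sum_repr ⟨y, hy⟩
          rw [show y = ((⟨y, hy⟩ : C') : CotangentSpace A) from rfl, ← hy', AddSubmonoidClass.coe_finsetSum]
          refine sum_mem fun j _ => ?_
          refine J''.smul_mem _ ⟨a j, ?_, ha j⟩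
          exact Ideal.mem_sup_left (Ideal.subset_span (Finset.mem_union_left _ (Finset.mem_image_of_mem _ (Finset.mem_univ j))))
        obtain ⟨y, hy, e⟩ : (maximalIdeal A).toCotangent ⟨x, hx⟩ ∈ J'' :=
          (sup_le hW hC) (hC'.sup_eq_top.symm ▸ Submodule.mem_top)
        have h2 : (y : A) - x ∈ maximalIdeal A ^ 2 := ((maximalIdeal A).toCotangent_eq).mp e
        have h3 : algebraMap A B ((y : A) - x) ∈ maximalIdeal B ^ 2 :=
          (Ideal.le_comap_pow (algebraMap A B) 2).trans (le_refl _) |>.trans (le_refl _)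
            (Ideal.pow_right_mono (fun a' ha' => algebraMap_mem hmax ha') 2 h2)
        have h4 : algebraMap A B (y : A) ∈ Ideal.span (s : Set B) ⊔ maximalIdeal B ^ 2 := hy
        have h5 := sub_mem h4 (Ideal.mem_sup_right h3 : _ ∈ Ideal.span (s : Set B) ⊔ maximalIdeal B ^ 2)
        rw [← map_sub, sub_sub_cancel] at h5
        exact h5
      · refine le_sup_of_le_left (Ideal.span_mono ?_)
        rintro _ ⟨i, rfl⟩
        exact Finset.mem_union_right _ (Finset.mem_image_of_mem _ (Finset.mem_univ i))
    · intro y hy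
      rcases Finset.mem_union.mp hy with h | h <;> obtain ⟨i, -, rfl⟩ := Finset.mem_image.mp h
      · exact algebraMap_mem hmax (a i).2
      · exact gen_mem hmax i
  have h1 : (maximalIdeal B).spanFinrank ≤ s.card := by
    rw [hs, ← Set.ncard_coe_finset]
    exact Submodule.spanFinrank_span_le_ncard_of_finite s.finite_toSet
  have h2 : s.card ≤ Module.finrank (ResidueField A) C' + r :=
    (Finset.card_union_le _ _).trans (Nat.add_le_add (Finset.card_image_le.trans (by simp))
      (Finset.card_image_le.trans (by simp)))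
  have h3 := Submodule.finrank_add_eq_of_isCompl hC'
  show _ + Module.finrank _ W ≤ _
  omega

theorem isRegularLocalRing_iff (hF : Eisenstein F c) [IsRegularLocalRing A] [Algebra.IsIntegral A B]
    (hinj : Function.Injective (algebraMap A B))
    (hsurj : Function.Surjective (aeval (R := A) t))
    (hker : RingHom.ker (aeval (R := A) t) = Ideal.span (Set.range F))
    (hmax : (maximalIdeal B).comap (aeval (R := A) t) = RingHom.ker (origin A r)) :
    IsRegularLocalRing B ↔ LinearIndependent (ResidueField A) (cls hF) := by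
  haveI : IsNoetherianRing B :=
    isNoetherianRing_of_surjective (MvPolynomial (Fin r) A) B (aeval (R := A) t).toRingHom hsurj
  have hA := (IsRegularLocalRing.iff_finrank_cotangentSpace A).1 ‹_›
  rw [linearIndependent_iff_card_eq_finrank_span, Fintype.card_fin, _root_.isRegularLocalRing_iff,
    VarDim.ringKrullDim_eq_of_isIntegral hinj, ← hA, Nat.cast_inj]
  have hfg : (maximalIdeal B).FG := IsNoetherian.noetherian _
  obtain ⟨g, hg⟩ : ∃ g : Fin (maximalIdeal B).spanFinrank → B, maximalIdeal B = Ideal.span (Set.range g) := by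
    obtain ⟨s, hc, hs⟩ := Submodule.FG.exists_span_finset_card_eq_spanFinrank hfg
    refine ⟨fun i => (s.equivFin.symm (Fin.cast hc.symm i) : B), hs.symm.trans (congrArg Ideal.span ?_)⟩
    ext x
    constructor
    · intro hx
      exact ⟨Fin.cast hc (s.equivFin ⟨x, hx⟩), by simp⟩
    · rintro ⟨i, rfl⟩
      exact Subtype.property _
  have h1 := finrank_le hF hsurj hker hmax g hg
  have h2 := exists_gen hF hsurj hker hmax
  rw [Set.finrank]
  omega

end Groth.Agent.EisPoly3
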