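import Groth.Agent.Lib.EisPoly3.Basic

/-!
The polynomials `Xᵢ^(dᵢ) + ∑ cᵢₖ Xᵢ^k`.
-/

set_option autoImplicit false
set_option linter.style.haveILetI false

universe u

open IsLocalRing MvPolynomial

namespace Groth.Agent.EisPoly3

variable {A : Type u} [CommRing A] [IsLocalRing A] {r : ℕ} (d : Fin r → ℕ) (hd : ∀ i, 2 ≤ d i) (c : Fin r → ℕ → A)
  (hc : ∀ i k, c i k ∈ maximalIdeal A)
  (F : Fin r → MvPolynomial (Fin r) A)
  (hF : ∀ i, F i = X i ^ d i + (Finset.range (d i)).sum fun k => C (c i k) * X i ^ k)

include hd hc hF in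
theorem eisenstein : Eisenstein F (fun i => c i 0) where
  constantCoeff_eq i := by
    classical
    have h2 := hd i
    rw [hF, coeff_add, coeff_sum, coeff_X_pow, Finset.sum_eq_single 0]
    · simp [coeff_C, show d i ≠ 0 by omega, Finsupp.single_eq_zero]
    · intro k _ hk
      simp [coeff_C_mul, coeff_X_pow, hk, Finsupp.single_eq_zero]
    · intro h
      exact absurd (Finset.mem_range.mpr (by omega)) h
  mem i := hc i 0
  linear_mem i j := by
    classical
    have h2 := hd i
    rw [hF, coeff_add, coeff_sum]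
    refine add_mem ?_ (sum_mem fun k _ => ?_)
    · rw [coeff_X_pow, if_neg]
      · exact zero_mem _
      · intro e
        rcases (Finsupp.single_eq_single_iff _ _ _ _).mp e with ⟨-, e⟩ | ⟨e, -⟩ <;> omega
    · rw [coeff_C_mul]
      exact Ideal.mul_mem_right _ _ (hc i k)
  map_eq i := ⟨d i, hd i, by
    rw [hF, map_add, map_sum, map_pow, map_X, Finset.sum_eq_zero, add_zero]
    intro k _
    rw [map_mul, map_C, (residue_eq_zero_iff _).mpr (hc i k), map_zero, zero_mul]⟩

/-- The one-variable polynomial underlying `F i`. -/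
noncomputable def univ' (i : Fin r) : Polynomial A :=
  Polynomial.X ^ d i + (Finset.range (d i)).sum fun k => Polynomial.C (c i k) * Polynomial.X ^ k

omit [IsLocalRing A] in
theorem univ'_degree_lt (i : Fin r) :
    ((Finset.range (d i)).sum fun k => Polynomial.C (c i k) * Polynomial.X ^ k).degree < (d i : WithBot ℕ) := by
  refine lt_of_le_of_lt (Polynomial.degree_sum_le _ _) ((Finset.sup_lt_iff (WithBot.bot_lt_coe _)).mpr fun k hk => ?_)
  exact lt_of_le_of_lt (Polynomial.degree_C_mul_X_pow_le _ _) (Nat.cast_lt.mpr (Finset.mem_range.mp hk))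

variable {B : Type u} [CommRing B] [Algebra A B] (t : Fin r → B)

include hd hF in
theorem injective_and_isIntegral (hsurj : Function.Surjective (aeval (R := A) t))
    (hker : RingHom.ker (aeval (R := A) t) = Ideal.span (Set.range F)) :
    Function.Injective (algebraMap A B) ∧ Algebra.IsIntegral A B := by
  refine PPoly3.injective_and_isIntegral F t hsurj hker (univ' d c)
    (fun i => Polynomial.monic_X_pow_add (univ'_degree_lt d c i)) (fun i => ?_) fun C' _ φ z i => ?_
  · have h : (univ' d c i).degree = d i := by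
      rw [univ', Polynomial.degree_add_eq_left_of_degree_lt
        (by rw [Polynomial.degree_X_pow]; exact univ'_degree_lt d c i), Polynomial.degree_X_pow]
    rw [Polynomial.natDegree_eq_of_degree_eq_some h]
    have := hd i
    omega
  · rw [hF]
    simp only [univ', map_add, map_sum, map_mul, map_pow, eval₂Hom_X', eval₂Hom_C, Polynomial.eval₂_add,
      Polynomial.eval₂_finsetSum, Polynomial.eval₂_mul, Polynomial.eval₂_pow, Polynomial.eval₂_X, Polynomial.eval₂_C]

include hd hc hF in
theorem squareZero_data (hm : maximalIdeal A ^ 2 = ⊥) (hsurj : Function.Surjective (aeval (R := A) t))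
    (hker : RingHom.ker (aeval (R := A) t) = Ideal.span (Set.range F)) :
    ∃ _ : IsLocalRing B, Function.Surjective ((Ideal.Quotient.mk (maximalIdeal B)).comp (algebraMap A B)) ∧
      maximalIdeal A ⊓ Ideal.comap (algebraMap A B) (maximalIdeal B ^ 2) = Ideal.span (Set.range fun i => c i 0) := by
  haveI := (injective_and_isIntegral d hd c F hF t hsurj hker).2
  have hE := eisenstein d hd c hc F hF
  obtain ⟨hloc, hmax⟩ := isLocalRing hE hsurj hker
  refine ⟨hloc, residue_surjective_comp hsurj hmax, le_antisymm ?_ ?_⟩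
  · rintro a ⟨ha, h2⟩
    obtain ⟨b, hb⟩ := (Submodule.mem_span_range_iff_exists_fun _).mp (linPart_sq hE hsurj hker hmax ha h2)
    choose b' hb' using fun i => residue_surjective (b i)
    have h3 : (maximalIdeal A).toCotangent (∑ i, b' i • (⟨c i 0, hc i 0⟩ : maximalIdeal A)) =
        (maximalIdeal A).toCotangent ⟨a, ha⟩ := by
      rw [map_sum, ← hb]
      refine Finset.sum_congr rfl fun i _ => ?_
      rw [map_smul, ← hb' i, ← ResidueField.algebraMap_eq, algebraMap_smul]
      rfl
    rw [Ideal.toCotangent_eq, hm, Ideal.mem_bot, sub_eq_zero] at h3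
    change _ = a at h3
    rw [← h3, AddSubmonoidClass.coe_finsetSum]
    exact sum_mem fun i _ => Ideal.mul_mem_left _ _ (Ideal.subset_span ⟨i, rfl⟩)
  · refine Ideal.span_le.mpr ?_
    rintro _ ⟨i, rfl⟩
    exact ⟨hc i 0, mem_span_gen hE hker hmax i⟩

end Groth.Agent.EisPoly3
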